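import Groth.Agent.S3081
import Mathlib.CategoryTheory.Sites.RegularEpi
import Mathlib.CategoryTheory.Limits.Preserves.Shapes.Pullbacks
import Mathlib.CategoryTheory.Limits.Preserves.Shapes.Terminal

/-!
Giraud's exactness axioms are inherited along a jointly conservative family of functors to sheaf
topoi preserving finite limits and small colimits.
-/

universe u v w

set_option linter.style.haveILetI false

open CategoryTheory CategoryTheory.Limits

namespace Groth.Agent.Giraud16

variable {E : Type v} [Category.{u} E] [HasFiniteLimits E]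
  {κ : Type w} {C : κ → Type u} [∀ k, SmallCategory (C k)] {J : ∀ k, GrothendieckTopology (C k)}
  (Φ : ∀ k, E ⥤ Sheaf (J k) (Type u))
  [∀ k, PreservesFiniteLimits (Φ k)] [∀ k, PreservesColimitsOfSize.{u, u} (Φ k)]
  (hcons : ∀ {X Y : E} (f : X ⟶ Y), (∀ k, IsIso ((Φ k).map f)) → IsIso f)

include hcons in
lemma mono_of_family {X Y : E} (f : X ⟶ Y) (h : ∀ k, Mono ((Φ k).map f)) : Mono f := by
  haveI : IsIso (pullback.fst f f) := hcons _ fun k => by
    haveI := h k
    exact (((IsPullback.of_hasPullback f f).map (Φ k))).isIso_fst_of_mono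
  refine ⟨fun {Z} a b e => ?_⟩
  have hd : pullback.fst f f = pullback.snd f f := by
    let d : X ⟶ pullback f f := pullback.lift (𝟙 X) (𝟙 X) rfl
    haveI : IsIso (d ≫ pullback.fst f f) := by rw [pullback.lift_fst]; infer_instance
    haveI : IsIso d := IsIso.of_isIso_comp_right d (pullback.fst f f)
    rw [← cancel_epi d, pullback.lift_fst, pullback.lift_snd]
  rw [← pullback.lift_fst a b e, hd, pullback.lift_snd]

include hcons in
lemma coproducts_of_family [HasColimitsOfSize.{u, u} E] :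
    SGA4.HasDisjointUniversalCoproducts.{v, u} E := by
  intro ι X
  let c : Cofan X := Cofan.mk (∐ X) (Sigma.ι X)
  let hc : IsColimit c := coproductIsCoproduct X
  have hev : ∀ k, ∃ hcd : IsColimit ((Φ k).mapCocone c),
      CoproductDisjoint (fun i => (Φ k).obj (X i)) ∧ IsUniversalColimit ((Φ k).mapCocone c) := by
    intro k
    have hcd : IsColimit ((Φ k).mapCocone c) := isColimitOfPreserves _ hc
    obtain ⟨c₀, hc₀, hdis, huniv⟩ :=
      (Groth.Agent.S3081.result (J k)).1 ι (fun i => (Φ k).obj (X i))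
    refine ⟨hcd, hdis, ?_⟩
    let iso : Discrete.functor X ⋙ Φ k ≅ Discrete.functor (fun i => (Φ k).obj (X i)) :=
      Discrete.natIso fun _ => Iso.refl _
    exact (huniv.precompose_isIso iso.hom).of_iso
      (((IsColimit.precomposeHomEquiv iso c₀).symm hc₀).uniqueUpToIso hcd)
  refine ⟨c, hc, ?_, ?_⟩
  · haveI : ∀ i, Mono (c.inj i) := fun i => mono_of_family Φ hcons _ fun k => by
      obtain ⟨hcd, hdis, -⟩ := hev k
      exact hdis.mono_inj (c := Cofan.mk ((Φ k).obj c.pt) fun i => (Φ k).map (c.inj i))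
        (isColimitMapCoconeCofanMkEquiv _ _ _ hcd) i
    haveI : HasColimitsOfSize.{0, 0} E := hasColimitsOfSizeShrink.{0, 0, u, u} E
    haveI : HasInitial E := inferInstance
    have hI : ∀ {i j : ι}, i ≠ j → IsIso (initial.to (pullback (c.inj i) (c.inj j))) :=
      fun {i j} hij => hcons _ fun k => by
        obtain ⟨hcd, hdis, -⟩ := hev k
        obtain ⟨hP⟩ := hdis.nonempty_isInitial_of_ne
          (c := Cofan.mk ((Φ k).obj c.pt) fun i => (Φ k).map (c.inj i))
          (isColimitMapCoconeCofanMkEquiv _ _ _ hcd) hij _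
          ((IsPullback.of_hasPullback (c.inj i) (c.inj j)).map (Φ k)).isLimit
        exact isIso_of_isInitial (IsInitial.isInitialObj (Φ k) _ initialIsInitial) hP _
    exact CoproductDisjoint.of_cofan hc
      (fun {i j} _ => PullbackCone.mk (pullback.fst (c.inj i) (c.inj j)) (pullback.snd (c.inj i) (c.inj j))
        pullback.condition)
      (fun {i j} _ => pullbackIsPullback _ _)
      (fun {i j} hij => by
        haveI := hI hij
        exact initialIsInitial.ofIso (@asIso _ _ _ _ _ (hI hij)))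
  · intro F' c' α f w hα hpb
    let cf := colimit.cocone F'
    haveI : IsIso ((colimit.isColimit F').desc c') := hcons _ fun k => by
      obtain ⟨hcd, -, huniv⟩ := hev k
      obtain ⟨h'⟩ := huniv ((Φ k).mapCocone c') (Functor.whiskerRight α (Φ k)) ((Φ k).map f)
        (by
          ext ⟨i⟩ : 2
          exact ((Φ k).map_comp _ _).symm.trans ((congrArg (Φ k).map (congrArg (fun t => NatTrans.app t ⟨i⟩) w)).trans
            ((Φ k).map_comp _ _)))
        (NatTrans.Equifibered.of_discrete _) (fun i => (hpb i).map (Φ k))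
      have h₀ := isColimitOfPreserves (Φ k) (colimit.isColimit F')
      have e : (Φ k).map ((colimit.isColimit F').desc c') = (h₀.coconePointUniqueUpToIso h').hom :=
        h₀.hom_ext fun i => by
          rw [h₀.comp_coconePointUniqueUpToIso_hom]
          exact ((Φ k).map_comp _ _).symm.trans (congrArg (Φ k).map ((colimit.isColimit F').fac c' i))
      rw [e]; infer_instance
    exact ⟨IsColimit.ofIsoColimit (colimit.isColimit F')
      (Cocone.ext (asIso ((colimit.isColimit F').desc c')) fun i => (colimit.isColimit F').fac c' i)⟩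

omit [∀ k, PreservesColimitsOfSize.{u, u} (Φ k)] in
lemma isEquivRel_map {R A : E} {p₁ p₂ : R ⟶ A} (h : SGA4.IsEquivRel p₁ p₂) (k : κ) :
    SGA4.IsEquivRel ((Φ k).map p₁) ((Φ k).map p₂) := by
  intro T
  let F := Φ k
  obtain ⟨d, hd₁, hd₂⟩ := (h A).2.refl (𝟙 A)
  obtain ⟨s, hs₁, hs₂⟩ := (h R).2.symm ⟨𝟙 R, Category.id_comp p₁, Category.id_comp p₂⟩
  obtain ⟨t, ht₁, ht₂⟩ := (h (pullback p₂ p₁)).2.trans
    ⟨pullback.fst p₂ p₁, rfl, rfl⟩ ⟨pullback.snd p₂ p₁, pullback.condition.symm, rfl⟩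
  let K := pullback p₁ p₁
  let e := equalizer.ι (pullback.fst p₁ p₁ ≫ p₂) (pullback.snd p₁ p₁ ≫ p₂)
  have he : e ≫ pullback.fst p₁ p₁ = e ≫ pullback.snd p₁ p₁ :=
    (h _).1 (Prod.ext (by simp [pullback.condition]) (by simpa [e] using equalizer.condition _ _))
  refine ⟨fun a b eab => ?_, fun a => ?_, fun {a b} hab => ?_, fun {a b c} hab hbc => ?_⟩
  · have h₁ : a ≫ F.map p₁ = b ≫ F.map p₁ := congrArg Prod.fst eab
    have h₂ : a ≫ F.map p₂ = b ≫ F.map p₂ := congrArg Prod.snd eab
    have hK := (IsPullback.of_hasPullback p₁ p₁).map F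
    let l := hK.lift a b h₁
    have hEq := isLimitForkMapOfIsLimit F _ (equalizerIsEqualizer (pullback.fst p₁ p₁ ≫ p₂) (pullback.snd p₁ p₁ ≫ p₂))
    obtain ⟨m, hm⟩ := Fork.IsLimit.lift' hEq l (by
      rw [F.map_comp, F.map_comp, ← Category.assoc, ← Category.assoc, hK.lift_fst, hK.lift_snd, h₂])
    change m ≫ F.map e = l at hm
    refine ((hK.lift_fst a b h₁).symm.trans ?_).trans (hK.lift_snd a b h₁)
    change l ≫ _ = l ≫ _
    rw [← hm, Category.assoc, Category.assoc, ← F.map_comp, ← F.map_comp, he]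
  · exact ⟨a ≫ F.map d, by rw [Category.assoc, ← F.map_comp, hd₁, F.map_id, Category.comp_id],
      by rw [Category.assoc, ← F.map_comp, hd₂, F.map_id, Category.comp_id]⟩
  · obtain ⟨f, rfl, rfl⟩ := hab
    exact ⟨f ≫ F.map s, by rw [Category.assoc, ← F.map_comp, hs₁], by rw [Category.assoc, ← F.map_comp, hs₂]⟩
  · obtain ⟨f, rfl, rfl⟩ := hab
    obtain ⟨g, hg, rfl⟩ := hbc
    have hP := (IsPullback.of_hasPullback p₂ p₁).map F
    refine ⟨hP.lift f g hg.symm ≫ F.map t, ?_, ?_⟩
    · rw [Category.assoc, ← F.map_comp, ht₁, F.map_comp, hP.lift_fst_assoc]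
    · rw [Category.assoc, ← F.map_comp, ht₂, F.map_comp, hP.lift_snd_assoc]

include hcons in
lemma effective_of_family [HasPushouts E] (R A : E) (p₁ p₂ : R ⟶ A) (h : SGA4.IsEquivRel p₁ p₂) :
    SGA4.IsEffectiveUniversalEquivRel p₁ p₂ := by
  have hd := isEquivRel_map Φ h
  have hev := fun k => (Groth.Agent.S3081.result (J k)).2 _ _ _ _ (hd k)
  choose B π₀ hpb₀ hpo₀ hst₀ using hev
  obtain ⟨d, hd₁, hd₂⟩ := (h A).2.refl (𝟙 A)
  have hπ : pushout.inr p₁ p₂ = pushout.inl p₁ p₂ := by
    have := congrArg (d ≫ ·) (pushout.condition (f := p₁) (g := p₂))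
    simpa [reassoc_of% hd₁, reassoc_of% hd₂] using this.symm
  have hpo := IsPushout.of_hasPushout p₁ p₂
  rw [hπ] at hpo
  set π := pushout.inl p₁ p₂
  have hk : ∀ k, IsPullback ((Φ k).map p₁) ((Φ k).map p₂) ((Φ k).map π) ((Φ k).map π) := fun k =>
    (hpb₀ k).of_iso (Iso.refl _) (Iso.refl _) (Iso.refl _)
      ((hpo₀ k).isoPushout ≪≫ (hpo.map (Φ k)).isoPushout.symm)
      (by simp) (by simp)
      (by simp [(hpo₀ k).inl_isoPushout_hom_assoc, (hpo.map (Φ k)).inl_isoPushout_inv])
      (by simp [(hpo₀ k).inr_isoPushout_hom_assoc, (hpo.map (Φ k)).inr_isoPushout_inv])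
  have hepi : ∀ k, Epi ((Φ k).map π) := fun k => by
    haveI := hst₀ k (B k) (𝟙 _)
    haveI : Epi (π₀ k) := by
      have : pullback.fst (π₀ k) (𝟙 (B k)) ≫ π₀ k = pullback.snd (π₀ k) (𝟙 (B k)) := by
        rw [pullback.condition, Category.comp_id]
      exact epi_of_epi_fac this
    rw [← (hpo.map (Φ k)).inl_isoPushout_inv, ← (hpo₀ k).inl_isoPushout_hom_assoc]
    exact epi_comp _ _
  let q₀ : R ⟶ pullback π π := pullback.lift p₁ p₂ hpo.w
  haveI : IsIso q₀ := hcons _ fun k => by
    have e : (Φ k).map q₀ = ((hk k).isoIsPullback _ _ ((IsPullback.of_hasPullback π π).map (Φ k))).hom := by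
      refine ((IsPullback.of_hasPullback π π).map (Φ k)).hom_ext ?_ ?_
      · rw [← (Φ k).map_comp, pullback.lift_fst, IsPullback.isoIsPullback_hom_fst]
      · rw [← (Φ k).map_comp, pullback.lift_snd, IsPullback.isoIsPullback_hom_snd]
    rw [e]; infer_instance
  have hpb : IsPullback p₁ p₂ π π :=
    IsPullback.of_iso_pullback ⟨hpo.w⟩ (asIso q₀) (pullback.lift_fst _ _ _) (pullback.lift_snd _ _ _)
  refine ⟨_, π, hpb, hpo, fun B' g => ?_⟩
  let q := pullback.snd π g
  let K₁ := pullback.fst q q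
  let K₂ := pullback.snd q q
  let δ : Limits.pullback π g ⟶ pullback q q := pullback.lift (𝟙 _) (𝟙 _) rfl
  have hinl : pushout.inr K₁ K₂ = pushout.inl K₁ K₂ := by
    have := congrArg (δ ≫ ·) (pushout.condition (f := K₁) (g := K₂))
    have h₁ : δ ≫ K₁ = 𝟙 _ := pullback.lift_fst _ _ _
    have h₂ : δ ≫ K₂ = 𝟙 _ := pullback.lift_snd _ _ _
    simpa [reassoc_of% h₁, reassoc_of% h₂] using this.symm
  let Q := pushout.desc q q (pullback.condition (f := q) (g := q))
  haveI : IsIso Q := hcons _ fun k => by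
    haveI : Sheaf.IsLocallySurjective ((Φ k).map π) := by
      rw [Sheaf.isLocallySurjective_iff_epi]; exact hepi k
    haveI : Sheaf.IsLocallySurjective ((Φ k).map q) := by
      refine ⟨fun {U} y => ?_⟩
      refine (J k).superset_covering ?_ (Presheaf.imageSieve_mem (J k) ((Φ k).map π).hom
        (((Φ k).map g).hom.app (Opposite.op U) y))
      rintro V f ⟨a, ha⟩
      obtain ⟨z, -, hz⟩ := ((Types.isPullback_iff _ _ _ _).1
        ((((IsPullback.of_hasPullback π g).map (Φ k)).map (sheafToPresheaf _ _)).app (Opposite.op V))).2.2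
        a (((Φ k).obj B').obj.map f.op y) (ha.trans (NatTrans.naturality_apply ((Φ k).map g).hom f.op y).symm)
      exact ⟨z, hz⟩
    haveI : Epi ((Φ k).map q) := inferInstance
    haveI : IsRegularEpi ((Φ k).map q) := IsRegularEpiCategory.regularEpiOfEpi _
    have hcq := isColimitCoforkOfEffectiveEpi ((Φ k).map q) _
      ((IsPullback.of_hasPullback q q).map (Φ k)).isLimit
    have hP := (IsPushout.of_hasPushout K₁ K₂).map (Φ k)
    have hw : (Φ k).map K₁ ≫ (Φ k).map (pushout.inl K₁ K₂) = (Φ k).map K₂ ≫ (Φ k).map (pushout.inl K₁ K₂) := by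
      rw [← (Φ k).map_comp, ← (Φ k).map_comp, pushout.condition, hinl]
    refine ⟨hcq.desc (Cofork.ofπ ((Φ k).map (pushout.inl K₁ K₂)) hw), ?_, ?_⟩
    · refine hP.hom_ext ?_ ?_
      · rw [← Category.assoc, ← (Φ k).map_comp, pushout.inl_desc, Category.comp_id]
        exact Cofork.IsColimit.π_desc hcq
      · rw [← Category.assoc, ← (Φ k).map_comp, pushout.inr_desc, Category.comp_id, hinl]
        exact Cofork.IsColimit.π_desc hcq
    · refine Cofork.IsColimit.hom_ext hcq ?_
      rw [← Category.assoc, Cofork.IsColimit.π_desc hcq]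
      change (Φ k).map (pushout.inl K₁ K₂) ≫ (Φ k).map Q = (Φ k).map q ≫ 𝟙 _
      rw [← (Φ k).map_comp, pushout.inl_desc, Category.comp_id]
  have hw' : ∀ {W : E} (e : Limits.pullback π g ⟶ W),
      (∀ {Z : E} (g₁ g₂ : Z ⟶ Limits.pullback π g), g₁ ≫ q = g₂ ≫ q → g₁ ≫ e = g₂ ≫ e) → K₁ ≫ e = K₂ ≫ e :=
    fun e he => he K₁ K₂ pullback.condition
  refine ⟨⟨{
    desc := fun e he => inv Q ≫ pushout.desc e e (hw' e he)
    fac := fun e he => ?_
    uniq := fun e he m hm => ?_ }⟩⟩
  · have : q = pushout.inl K₁ K₂ ≫ Q := (pushout.inl_desc _ _ _).symm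
    refine (congrArg (fun t => t ≫ inv Q ≫ pushout.desc e e (hw' e he)) this).trans ?_
    rw [Category.assoc, IsIso.hom_inv_id_assoc, pushout.inl_desc]
  · rw [IsIso.eq_inv_comp]
    refine pushout.hom_ext ?_ ?_
    · rw [pushout.inl_desc, pushout.inl_desc_assoc]; exact hm
    · rw [pushout.inr_desc, pushout.inr_desc_assoc]; exact hm

end Groth.Agent.Giraud16
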