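import Groth.Prelude.Def_SGA4a
import Mathlib.CategoryTheory.EffectiveEpi.Basic
import Mathlib.CategoryTheory.Limits.Shapes.StrongEpi
import Mathlib.CategoryTheory.Limits.Shapes.DisjointCoproduct
import Mathlib.CategoryTheory.Limits.VanKampen
import Mathlib.CategoryTheory.Limits.Shapes.Equalizers

/-!
Covering families in a category satisfying Giraud's exactness axioms: a family is covering when it
does not factor through a proper subobject.
-/

universe w w' u v

set_option linter.style.haveILetI false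

open CategoryTheory CategoryTheory.Limits

namespace Groth.Agent.Giraud16

variable {E : Type v} [Category.{u} E]

/-- A family of maps is covering if every monomorphism through which it factors is invertible. -/
def Cov {ι : Type w} {X : E} {F : ι → E} (f : ∀ i, F i ⟶ X) : Prop :=
  ∀ (M : E) (m : M ⟶ X), Mono m → (∀ i, ∃ g : F i ⟶ M, g ≫ m = f i) → IsIso m

variable {ι : Type w} {X : E} {F : ι → E} {f : ∀ i, F i ⟶ X}

lemma Cov.mono_of_factors (hf : Cov f) {κ : Type w'} {F' : κ → E} (f' : ∀ k, F' k ⟶ X)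
    (h : ∀ i, ∃ (k : κ) (g : F i ⟶ F' k), g ≫ f' k = f i) : Cov f' := by
  intro M m hm hg
  refine hf M m hm fun i => ?_
  obtain ⟨k, g, e⟩ := h i
  obtain ⟨g', e'⟩ := hg k
  exact ⟨g ≫ g', by rw [Category.assoc, e', e]⟩

variable [HasFiniteLimits E]

lemma Cov.factor (hf : Cov f) {M Y : E} (m : M ⟶ Y) [Mono m] (g : X ⟶ Y)
    (h : ∀ i, ∃ l : F i ⟶ M, l ≫ m = f i ≫ g) : ∃ l : X ⟶ M, l ≫ m = g := by
  haveI : IsIso (pullback.snd m g) := hf _ _ inferInstance fun i => by
    obtain ⟨l, hl⟩ := h i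
    exact ⟨pullback.lift l (f i) hl, pullback.lift_snd _ _ _⟩
  exact ⟨inv (pullback.snd m g) ≫ pullback.fst m g, by
    rw [Category.assoc, pullback.condition, IsIso.inv_hom_id_assoc]⟩

lemma Cov.hom_ext (hf : Cov f) {Z : E} {a b : X ⟶ Z} (h : ∀ i, f i ≫ a = f i ≫ b) : a = b := by
  haveI : IsIso (equalizer.ι a b) := hf _ _ inferInstance fun i =>
    ⟨equalizer.lift (f i) (h i), equalizer.lift_ι _ _⟩
  rw [← cancel_epi (equalizer.ι a b), equalizer.condition]

lemma Cov.comp (hf : Cov f) {κ : ι → Type w'} {H : ∀ i, κ i → E} (g : ∀ i k, H i k ⟶ F i)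
    (hg : ∀ i, Cov (g i)) : Cov (fun p : Σ i, κ i => g p.1 p.2 ≫ f p.1) := by
  intro M m hm h
  exact hf M m hm fun i => (hg i).factor m (f i) fun k => h ⟨i, k⟩

lemma cov_of_isSplitEpi {Y : E} (p : Y ⟶ X) [IsSplitEpi p] :
    Cov (fun _ : PUnit.{1} => p) := by
  intro M m hm h
  obtain ⟨g, hg⟩ := h ⟨⟩
  haveI : IsSplitEpi m := ⟨⟨⟨section_ p ≫ g, by rw [Category.assoc, hg, IsSplitEpi.id]⟩⟩⟩
  exact isIso_of_mono_of_isSplitEpi m

variable (hb : SGA4.HasDisjointUniversalCoproducts.{v, u} E)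

/-- The chosen coproduct. -/
noncomputable def cop {ι : Type u} (F : ι → E) : Cofan F := (hb ι F).choose

/-- It is a colimit. -/
noncomputable def copIsColimit {ι : Type u} (F : ι → E) : IsColimit (cop hb F) :=
  (hb ι F).choose_spec.choose

lemma cop_universal {ι : Type u} (F : ι → E) : IsUniversalColimit (cop hb F) :=
  (hb ι F).choose_spec.choose_spec.2

include hb in
lemma cop_disjoint {ι : Type u} (F : ι → E) : CoproductDisjoint F :=
  (hb ι F).choose_spec.choose_spec.1

include hb in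
lemma cov_inj {ι : Type u} (F : ι → E) : Cov (fun i => (cop hb F).inj i) := by
  intro M m hm h
  choose g hg using h
  haveI : IsSplitEpi m := ⟨⟨⟨Cofan.IsColimit.desc (copIsColimit hb F) g,
    Cofan.IsColimit.hom_ext (copIsColimit hb F) _ _ fun i => by
      rw [← Category.assoc, Cofan.IsColimit.fac, Category.comp_id, hg i]⟩⟩⟩
  exact isIso_of_mono_of_isSplitEpi m

include hb in
/-- A map into an initial object does not admit proper subobjects. -/
lemma isIso_of_mono_of_to_initial {P W M : E} (hP : IsInitial P) (t : W ⟶ P) (m : M ⟶ W) [Mono m] :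
    IsIso m := by
  let F0 : PEmpty.{u + 1} → E := PEmpty.elim
  let c := cop hb F0
  let hc := copIsColimit hb F0
  let g : W ⟶ c.pt := t ≫ hP.to c.pt
  let c' : Cofan F0 := Cofan.mk W fun i => PEmpty.elim i
  obtain ⟨hW⟩ := cop_universal hb F0 c' (𝟙 _) g (by ext ⟨i⟩; exact PEmpty.elim i)
    (NatTrans.Equifibered.of_discrete _) (fun ⟨i⟩ => PEmpty.elim i)
  haveI : IsSplitEpi m := ⟨⟨⟨Cofan.IsColimit.desc hW (fun i => PEmpty.elim i),
    Cofan.IsColimit.hom_ext hW _ _ fun i => PEmpty.elim i⟩⟩⟩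
  exact isIso_of_mono_of_isSplitEpi m

variable (hc : ∀ (R A : E) (p₁ p₂ : R ⟶ A), SGA4.IsEquivRel p₁ p₂ →
  SGA4.IsEffectiveUniversalEquivRel p₁ p₂)

include hc in
/-- Image factorisation. -/
lemma exists_image {A X : E} (p : A ⟶ X) :
    ∃ (B : E) (π : A ⟶ B) (i : B ⟶ X), Mono i ∧ π ≫ i = p ∧
      ∀ (B' : E) (g : B' ⟶ B), EffectiveEpi (pullback.snd π g) := by
  have hR : SGA4.IsEquivRel (pullback.fst p p) (pullback.snd p p) := by
    intro T
    refine ⟨fun a b e => pullback.hom_ext (congrArg Prod.fst e) (congrArg Prod.snd e), ?_⟩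
    have key : ∀ a b : T ⟶ A, (∃ f, f ≫ pullback.fst p p = a ∧ f ≫ pullback.snd p p = b) ↔
        a ≫ p = b ≫ p := fun a b => by
      refine ⟨?_, fun e => ⟨pullback.lift a b e, pullback.lift_fst _ _ _, pullback.lift_snd _ _ _⟩⟩
      rintro ⟨f, rfl, rfl⟩
      rw [Category.assoc, Category.assoc, pullback.condition]
    simp only [key]
    exact ⟨fun _ => rfl, fun e => e.symm, fun e e' => e.trans e'⟩
  obtain ⟨B, π, hpb, hpo, hstab⟩ := hc _ _ _ _ hR
  refine ⟨B, π, hpo.desc p p pullback.condition, ⟨fun {T} b₁ b₂ e => ?_⟩, hpo.inl_desc _ _ _, hstab⟩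
  have hπ := hpo.inl_desc p p pullback.condition
  let q₁ := pullback.snd π b₁
  haveI : EffectiveEpi q₁ := hstab _ b₁
  let q₂ := pullback.snd π (q₁ ≫ b₂)
  haveI : EffectiveEpi q₂ := hstab _ (q₁ ≫ b₂)
  rw [← cancel_epi q₁, ← cancel_epi q₂]
  let a₁ := q₂ ≫ pullback.fst π b₁
  let a₂ := pullback.fst π (q₁ ≫ b₂)
  have h₁ : a₁ ≫ π = q₂ ≫ q₁ ≫ b₁ := by
    rw [Category.assoc, pullback.condition]
  have h₂ : a₂ ≫ π = q₂ ≫ q₁ ≫ b₂ := pullback.condition
  have h : a₁ ≫ p = a₂ ≫ p := by
    calc a₁ ≫ p = (a₁ ≫ π) ≫ hpo.desc p p pullback.condition :=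
          (congrArg (a₁ ≫ ·) hπ).symm.trans (Category.assoc _ _ _).symm
      _ = (a₂ ≫ π) ≫ hpo.desc p p pullback.condition := by
          rw [h₁, h₂]; simp only [Category.assoc]; rw [e]
      _ = a₂ ≫ p := (Category.assoc _ _ _).trans (congrArg (a₂ ≫ ·) hπ)
  rw [← h₁, ← h₂, ← pullback.lift_fst a₁ a₂ h, Category.assoc, hpb.w, ← Category.assoc,
    pullback.lift_snd]

/-- The map from the coproduct. -/
noncomputable def total {ι : Type u} {X : E} {F : ι → E} (f : ∀ i, F i ⟶ X) : (cop hb F).pt ⟶ X :=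
  Cofan.IsColimit.desc (copIsColimit hb F) f

lemma inj_total {ι : Type u} {X : E} {F : ι → E} (f : ∀ i, F i ⟶ X) (i : ι) :
    (cop hb F).inj i ≫ total hb f = f i :=
  Cofan.IsColimit.fac _ _ _

lemma effectiveEpi_comp_iso {A B X : E} (π : A ⟶ B) (i : B ⟶ X) [IsIso i] [EffectiveEpi π] :
    EffectiveEpi (π ≫ i) :=
  ⟨⟨{
    desc := fun e he => inv i ≫ EffectiveEpi.desc π e
      (fun g₁ g₂ e' => he g₁ g₂ (by rw [← Category.assoc, e', Category.assoc]))
    fac := fun e he => by simp
    uniq := fun e he m hm => by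
      rw [IsIso.eq_inv_comp]
      exact EffectiveEpi.uniq π e _ (i ≫ m) (by rw [← Category.assoc]; exact hm) }⟩⟩

lemma effectiveEpi_iso_comp {A B X : E} (k : A ⟶ B) (π : B ⟶ X) [IsIso k] [EffectiveEpi π] :
    EffectiveEpi (k ≫ π) :=
  ⟨⟨{
    desc := fun e he => EffectiveEpi.desc π (inv k ≫ e)
      (fun g₁ g₂ e' => by
        have h := he (g₁ ≫ inv k) (g₂ ≫ inv k) (by simp [e'])
        simpa using h)
    fac := fun e he => by simp
    uniq := fun e he m hm => EffectiveEpi.uniq π _ _ m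
      (by rw [IsIso.eq_inv_comp, ← Category.assoc]; exact hm) }⟩⟩

include hc in
lemma effectiveEpi_snd_of_cov {ι : Type u} {X : E} {F : ι → E} {f : ∀ i, F i ⟶ X} (hf : Cov f)
    {Y : E} (g : Y ⟶ X) : StrongEpi (pullback.snd (total hb f) g) ∧
      EffectiveEpi (total hb f) := by
  obtain ⟨B, π, i, hi, hπ, hstab⟩ := exists_image hc (total hb f)
  haveI := hi
  haveI : IsIso i := hf B i hi fun k =>
    ⟨(cop hb F).inj k ≫ π, by rw [Category.assoc, hπ, inj_total]⟩
  constructor
  · have hsq : IsPullback (pullback.fst π (g ≫ inv i)) (pullback.snd π (g ≫ inv i)) (total hb f) g :=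
      (IsPullback.of_hasPullback π (g ≫ inv i)).of_iso (Iso.refl _) (Iso.refl _) (Iso.refl _) (asIso i)
        (by simp) (by simp) (by simp [hπ]) (by simp)
    haveI := hstab _ (g ≫ inv i)
    rw [← hsq.isoPullback_inv_snd]
    infer_instance
  · haveI := hstab B (𝟙 B)
    haveI : EffectiveEpi π := by
      haveI : IsIso (pullback.fst π (𝟙 B)) := inferInstance
      have e : π = inv (pullback.fst π (𝟙 B)) ≫ pullback.snd π (𝟙 B) := by
        rw [IsIso.eq_inv_comp, ← Category.comp_id (pullback.snd π (𝟙 B)), pullback.condition]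
      rw [e]
      exact effectiveEpi_iso_comp _ _
    rw [← hπ]
    exact effectiveEpi_comp_iso π i

include hb hc in
lemma Cov.pullback {ι : Type u} {X : E} {F : ι → E} {f : ∀ i, F i ⟶ X} (hf : Cov f)
    {Y : E} (g : Y ⟶ X) : Cov (fun i => pullback.snd (f i) g) := by
  intro M m hm h
  haveI := (effectiveEpi_snd_of_cov hb hc hf g).1
  let P := Limits.pullback (total hb f) g
  let c' : Cofan fun i => Limits.pullback (f i) g := Cofan.mk P fun i =>
    pullback.lift (pullback.fst (f i) g ≫ (cop hb F).inj i) (pullback.snd (f i) g)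
      (by rw [Category.assoc, inj_total, pullback.condition])
  obtain ⟨hcol⟩ := cop_universal hb F c' (Discrete.natTrans fun i => pullback.fst (f i.as) g)
    (pullback.fst (total hb f) g) (by
      ext ⟨i⟩
      exact (pullback.lift_fst (f := total hb f) (g := g) _ _ _).symm) (NatTrans.Equifibered.of_discrete _)
    (fun ⟨i⟩ => by
      refine IsPullback.of_right ?_ (pullback.lift_fst (f := total hb f) (g := g) _ _ _)
        (IsPullback.of_hasPullback (total hb f) g).flip
      have e : c'.ι.app ⟨i⟩ ≫ pullback.snd (total hb f) g = pullback.snd (f i) g := pullback.lift_snd _ _ _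
      rw [e]
      erw [inj_total]
      exact (IsPullback.of_hasPullback (f i) g).flip)
  choose l hl using h
  have e : Cofan.IsColimit.desc hcol l ≫ m = pullback.snd (total hb f) g :=
    Cofan.IsColimit.hom_ext hcol _ _ fun i => by
      rw [← Category.assoc, Cofan.IsColimit.fac, hl i]
      exact (pullback.lift_snd (f := total hb f) (g := g) _ _ _).symm
  haveI : StrongEpi (Cofan.IsColimit.desc hcol l ≫ m) := by rw [e]; infer_instance
  haveI : StrongEpi m := strongEpi_of_strongEpi (Cofan.IsColimit.desc hcol l) m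
  exact isIso_of_mono_of_strongEpi m

include hb hc in
/-- Gluing along a covering family. -/
lemma Cov.glue {ι : Type u} {X : E} {F : ι → E} {f : ∀ i, F i ⟶ X} (hf : Cov f) {Z : E}
    (x : ∀ i, F i ⟶ Z)
    (hx : ∀ (W : E) (i j : ι) (a : W ⟶ F i) (b : W ⟶ F j), a ≫ f i = b ≫ f j → a ≫ x i = b ≫ x j) :
    ∃ φ : X ⟶ Z, ∀ i, f i ≫ φ = x i := by
  haveI := (effectiveEpi_snd_of_cov hb hc hf (𝟙 X)).2
  let φ := Cofan.IsColimit.desc (copIsColimit hb F) x
  have hφ : ∀ i, (cop hb F).inj i ≫ φ = x i := fun i => Cofan.IsColimit.fac _ _ _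
  have h : ∀ {W : E} (a b : W ⟶ (cop hb F).pt), a ≫ total hb f = b ≫ total hb f → a ≫ φ = b ≫ φ := by
    intro W a b hab
    refine ((cov_inj hb F).pullback hb hc a).hom_ext fun i => ?_
    refine ((cov_inj hb F).pullback hb hc (pullback.snd ((cop hb F).inj i) a ≫ b)).hom_ext fun j => ?_
    let q := pullback.snd ((cop hb F).inj j) (pullback.snd ((cop hb F).inj i) a ≫ b)
    let ai := q ≫ pullback.fst ((cop hb F).inj i) a
    let bj := pullback.fst ((cop hb F).inj j) (pullback.snd ((cop hb F).inj i) a ≫ b)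
    have ea : ai ≫ (cop hb F).inj i = q ≫ pullback.snd ((cop hb F).inj i) a ≫ a := by
      rw [Category.assoc, pullback.condition]
    have eb : bj ≫ (cop hb F).inj j = q ≫ pullback.snd ((cop hb F).inj i) a ≫ b := pullback.condition
    have e : ai ≫ f i = bj ≫ f j := by
      refine ((congrArg (ai ≫ ·) (inj_total hb f i)).symm.trans (Category.assoc _ _ _).symm).trans ?_
      refine Eq.trans ?_ ((congrArg (bj ≫ ·) (inj_total hb f j)).symm.trans (Category.assoc _ _ _).symm).symm
      rw [ea, eb]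
      simp only [Category.assoc]
      rw [hab]
    calc q ≫ pullback.snd ((cop hb F).inj i) a ≫ a ≫ φ
        = (ai ≫ (cop hb F).inj i) ≫ φ := by rw [ea]; simp only [Category.assoc]
      _ = (bj ≫ (cop hb F).inj j) ≫ φ :=
          ((Category.assoc _ _ _).trans (congrArg (ai ≫ ·) (hφ i))).trans
            ((hx _ i j ai bj e).trans ((Category.assoc _ _ _).trans (congrArg (bj ≫ ·) (hφ j))).symm)
      _ = q ≫ pullback.snd ((cop hb F).inj i) a ≫ b ≫ φ := by rw [eb]; simp only [Category.assoc]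
  refine ⟨EffectiveEpi.desc (total hb f) φ h, fun i => ?_⟩
  rw [← inj_total hb f i, Category.assoc, EffectiveEpi.fac, hφ]

end Groth.Agent.Giraud16
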