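import Groth.Agent.Giraud16.Cov
import Mathlib.CategoryTheory.Sites.Sheaf
import Mathlib.CategoryTheory.InducedCategory

/-!
Giraud's theorem: the site of generators, and the equivalence with its category of sheaves.
-/

universe u v

set_option linter.style.haveILetI false

open CategoryTheory CategoryTheory.Limits Opposite

namespace Groth.Agent.Giraud16

variable {E : Type v} [Category.{u} E] [HasFiniteLimits E]
  (hb : SGA4.HasDisjointUniversalCoproducts.{v, u} E)
  (hc : ∀ (R A : E) (p₁ p₂ : R ⟶ A), SGA4.IsEquivRel p₁ p₂ →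
    SGA4.IsEffectiveUniversalEquivRel p₁ p₂)
  {ι : Type u} (G : ι → E)
  (hG : ∀ {X Y : E} (f : X ⟶ Y), (∀ (c : ι) (h : G c ⟶ Y), ∃! h', h' ≫ f = h) → IsIso f)

/-- The category of generators. -/
abbrev GenCat : Type u := InducedCategory E G

omit [HasFiniteLimits E] in
include hG in
lemma gen_cov (X : E) : Cov (fun p : Σ c : ι, (G c ⟶ X) => p.2) := fun M m hm h =>
  hG m fun c g => by
    haveI := hm
    obtain ⟨l, hl⟩ := h ⟨c, g⟩
    exact ⟨l, hl, fun l' hl' => (cancel_mono m).1 (hl'.trans hl.symm)⟩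

/-- A morphism of generators. -/
abbrev gh {a b : GenCat G} (f : G a ⟶ G b) : a ⟶ b := InducedCategory.homMk f

/-- Sieves of the site of generators as families in `E`. -/
abbrev sieveFam {c : GenCat G} (S : Sieve c) :
    ∀ p : Σ d : GenCat G, {a : d ⟶ c // S a}, G p.1 ⟶ G c := fun p => p.2.1.hom

include hb hc hG in
lemma cov_sieve_pullback {c d : GenCat G} {S : Sieve c} (hS : Cov (sieveFam G S)) (k : d ⟶ c) :
    Cov (sieveFam G (S.pullback k)) := by
  refine ((hS.pullback hb hc k.hom).comp
    (fun i (q : Σ e : ι, (G e ⟶ pullback (sieveFam G S i) k.hom)) => q.2)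
    fun i => gen_cov G hG _).mono_of_factors _ ?_
  rintro ⟨⟨d', a, ha⟩, e, t⟩
  refine ⟨⟨e, gh G (a := e) (b := d) (t ≫ pullback.snd _ _), ?_⟩, 𝟙 _, Category.id_comp _⟩
  change S _
  have : (gh G (a := e) (b := d) (t ≫ pullback.snd _ _)) ≫ k =
      gh G (a := e) (b := d') (t ≫ pullback.fst a.hom k.hom) ≫ a := by
    apply InducedCategory.hom_ext
    simp [InducedCategory.comp_hom, pullback.condition]
  rw [this]
  exact S.downward_closed ha _

/-- The topology on generators. -/
def genTop : GrothendieckTopology (GenCat G) where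
  sieves c := {S | Cov (sieveFam G S)}
  top_mem' c := (cov_of_isSplitEpi (𝟙 (G c))).mono_of_factors _ fun _ =>
    ⟨⟨c, 𝟙 c, trivial⟩, 𝟙 _, Category.id_comp _⟩
  pullback_stable' c d S k hS := cov_sieve_pullback hb hc G hG hS k
  transitive' c S hS R hR := by
    refine (Cov.comp (hf := (hS : Cov (sieveFam G S)))
      (fun i (q : Σ d : GenCat G, {a : d ⟶ i.1 // R.pullback i.2.1 a}) => q.2.1.hom)
      (fun i => hR i.2.2)).mono_of_factors _ ?_
    rintro ⟨i, d, a, ha⟩
    exact ⟨⟨d, a ≫ i.2.1, ha⟩, 𝟙 _, Category.id_comp _⟩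

/-- Restricted Yoneda. -/
@[simps]
def points : E ⥤ (GenCat G)ᵒᵖ ⥤ Type u where
  obj X :=
    { obj := fun c => G c.unop ⟶ X
      map := fun f => ↾ fun h => f.unop.hom ≫ h
      map_id := fun c => by
        refine ConcreteCategory.hom_ext _ _ fun h => ?_
        exact Category.id_comp h
      map_comp := fun f g => by
        refine ConcreteCategory.hom_ext _ _ fun h => ?_
        exact Category.assoc _ _ _ }
  map {X Y} φ :=
    { app := fun c => ↾ fun h => h ≫ φ
      naturality := fun c d f => by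
        refine ConcreteCategory.hom_ext _ _ fun h => ?_
        exact Category.assoc _ _ _ }
  map_id X := by
    refine NatTrans.ext (funext fun c => ConcreteCategory.hom_ext _ _ fun h => ?_)
    exact Category.comp_id h
  map_comp φ ψ := by
    refine NatTrans.ext (funext fun c => ConcreteCategory.hom_ext _ _ fun h => ?_)
    exact (Category.assoc _ _ _).symm

include hb hc hG in
lemma isSheaf_points (X : E) : Presheaf.IsSheaf (genTop hb hc G hG) ((points G).obj X) := by
  rw [isSheaf_iff_isSheaf_of_type]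
  intro c S hS x hx
  have hS' : Cov (sieveFam G S) := hS
  obtain ⟨φ, hφ⟩ := hS'.glue hb hc (fun i => x i.2.1 i.2.2) (fun W i j a b e => by
    refine (gen_cov G hG W).hom_ext fun p => ?_
    obtain ⟨d, t⟩ := p
    have h := hx (gh G (a := d) (b := i.1) (t ≫ a))
      (gh G (a := d) (b := j.1) (t ≫ b)) i.2.2 j.2.2
      (InducedCategory.hom_ext (by simpa [InducedCategory.comp_hom] using t ≫= e))
    exact (Category.assoc _ _ _).symm.trans (h.trans (Category.assoc _ _ _)))
  exact ⟨φ, fun d f hf => hφ ⟨d, f, hf⟩, fun t ht =>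
    hS'.hom_ext fun i => (ht i.2.1 i.2.2).trans (hφ i).symm⟩

/-- The comparison functor. -/
noncomputable def toSheaves : E ⥤ Sheaf (genTop hb hc G hG) (Type u) :=
  ObjectProperty.lift _ (points G) (isSheaf_points hb hc G hG)

lemma toSheaves_faithful : (toSheaves hb hc G hG).Faithful where
  map_injective {X Y} φ ψ h := (gen_cov G hG X).hom_ext fun p =>
    ConcreteCategory.congr_hom
      (congrArg (fun t => NatTrans.app t (Opposite.op (α := GenCat G) p.1)) (congrArg InducedCategory.Hom.hom h)) p.2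

lemma toSheaves_full : (toSheaves hb hc G hG).Full where
  map_surjective {X Y} φ := by
    obtain ⟨f, hf⟩ := (gen_cov G hG X).glue hb hc
      (fun p => φ.hom.app (op (p.1 : GenCat G)) p.2) (fun W i j a b e => by
        refine (gen_cov G hG W).hom_ext fun q => ?_
        obtain ⟨d, t⟩ := q
        have h₁ := NatTrans.naturality_apply φ.hom
          (gh G (a := d) (b := i.1) (t ≫ a)).op i.2
        have h₂ := NatTrans.naturality_apply φ.hom
          (gh G (a := d) (b := j.1) (t ≫ b)).op j.2
        have e' : (t ≫ a) ≫ i.2 = (t ≫ b) ≫ j.2 := by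
          simpa using t ≫= e
        refine (Category.assoc _ _ _).symm.trans (h₁.symm.trans (Eq.trans ?_ (h₂.trans (Category.assoc _ _ _))))
        exact congrArg (φ.hom.app (op (d : GenCat G))) e')
    refine ⟨f, ObjectProperty.hom_ext _ (NatTrans.ext (funext fun c => ?_))⟩
    refine ConcreteCategory.hom_ext _ _ fun h => ?_
    exact hf ⟨c.unop, h⟩

section EssSurj

variable (F : Sheaf (genTop hb hc G hG) (Type u))

/-- Index of the cover. -/
abbrev Idx : Type u := Σ c : GenCat G, F.obj.obj (op c)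

/-- The cover. -/
noncomputable abbrev cover : E := (cop hb fun k : Idx hb hc G hG F => G k.1).pt

/-- The injections of the cover. -/
noncomputable abbrev cinj (k : Idx hb hc G hG F) : G k.1 ⟶ cover hb hc G hG F :=
  (cop hb fun k : Idx hb hc G hG F => G k.1).inj k

/-- `s` is the value of `h`. -/
def Val {d : GenCat G} (h : G d ⟶ cover hb hc G hG F) (s : F.obj.obj (op d)) : Prop :=
  ∀ (e : GenCat G) (a : e ⟶ d) (k : Idx hb hc G hG F) (b : e ⟶ k.1),
    a.hom ≫ h = b.hom ≫ cinj hb hc G hG F k → F.obj.map a.op s = F.obj.map b.op k.2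

/-- The sieve of arrows along which `h` is a restriction of an injection. -/
def goodSieve {d : GenCat G} (h : G d ⟶ cover hb hc G hG F) : Sieve d where
  arrows e a := ∃ (k : Idx hb hc G hG F) (b : e ⟶ k.1), a.hom ≫ h = b.hom ≫ cinj hb hc G hG F k
  downward_closed := by
    rintro e e' a ⟨k, b, hab⟩ g
    exact ⟨k, g ≫ b, by simp [InducedCategory.comp_hom, hab]⟩

lemma goodSieve_mem {d : GenCat G} (h : G d ⟶ cover hb hc G hG F) :
    goodSieve hb hc G hG F h ∈ genTop hb hc G hG d := by
  refine (((cov_inj hb fun k : Idx hb hc G hG F => G k.1).pullback hb hc h).comp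
    (fun k (q : Σ e : ι, (G e ⟶ pullback ((cop hb fun k : Idx hb hc G hG F => G k.1).inj k) h)) => q.2)
    fun k => gen_cov G hG _).mono_of_factors _ ?_
  rintro ⟨k, e, t⟩
  refine ⟨⟨e, InducedCategory.homMk (t ≫ pullback.snd _ _), k,
    InducedCategory.homMk (t ≫ pullback.fst _ _), ?_⟩, 𝟙 _, Category.id_comp _⟩
  simp [pullback.condition]

include hb hc in
lemma eq_of_inj_eq {e : GenCat G} (i j : Idx hb hc G hG F) (a : e ⟶ i.1) (b : e ⟶ j.1)
    (h : a.hom ≫ cinj hb hc G hG F i = b.hom ≫ cinj hb hc G hG F j) :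
    F.obj.map a.op i.2 = F.obj.map b.op j.2 := by
  have hd := cop_disjoint hb fun k : Idx hb hc G hG F => G k.1
  by_cases hij : i = j
  · subst hij
    haveI := hd.mono_inj (copIsColimit hb fun k : Idx hb hc G hG F => G k.1) i
    rw [show a = b from InducedCategory.hom_ext ((cancel_mono (cinj hb hc G hG F i)).1 h)]
  · obtain ⟨hI⟩ := hd.nonempty_isInitial_of_ne (copIsColimit hb fun k : Idx hb hc G hG F => G k.1)
      hij _ (pullbackIsPullback (cinj hb hc G hG F i) (cinj hb hc G hG F j))
    have hbot : (⊥ : Sieve e) ∈ genTop hb hc G hG e := fun M m hm _ =>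
      isIso_of_mono_of_to_initial hb hI (pullback.lift a.hom b.hom h) m
    exact (((isSheaf_iff_isSheaf_of_type _ _).1 F.property) _ hbot).isSeparatedFor.ext
      fun _ _ hf => hf.elim

lemma existsUnique_val {d : GenCat G} (h : G d ⟶ cover hb hc G hG F) :
    ∃! s, Val hb hc G hG F h s := by
  have hsh := ((isSheaf_iff_isSheaf_of_type _ _).1 F.property) _ (goodSieve_mem hb hc G hG F h)
  let x : Presieve.FamilyOfElements F.obj (goodSieve hb hc G hG F h).arrows := fun e a ha =>
    F.obj.map ha.choose_spec.choose.op ha.choose.2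
  have hx : x.Compatible := by
    intro Y₁ Y₂ Z g₁ g₂ f₁ f₂ h₁ h₂ w
    change F.obj.map g₁.op (F.obj.map _ _) = F.obj.map g₂.op (F.obj.map _ _)
    rw [← Functor.map_comp_apply, ← Functor.map_comp_apply, ← op_comp, ← op_comp]
    refine eq_of_inj_eq hb hc G hG F _ _ _ _ ?_
    have e₁ := g₁.hom ≫= h₁.choose_spec.choose_spec
    have e₂ := g₂.hom ≫= h₂.choose_spec.choose_spec
    have e₃ := congrArg (fun t : Z ⟶ d => t.hom ≫ h) w
    simp only [InducedCategory.comp_hom, Category.assoc] at e₁ e₂ e₃ ⊢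
    rw [← e₁, ← e₂, e₃]
  obtain ⟨s, hs, hu⟩ := hsh x hx
  refine ⟨s, fun e a k b hab => ?_, fun s' hs' => hu s' fun e a ha =>
    hs' e a _ _ ha.choose_spec.choose_spec⟩
  have ha : goodSieve hb hc G hG F h a := ⟨k, b, hab⟩
  refine (hs a ha).trans (eq_of_inj_eq hb hc G hG F _ _ _ _ ?_)
  exact ha.choose_spec.choose_spec.symm.trans hab

/-- The value of a generalised point of the cover. -/
noncomputable def val {d : GenCat G} (h : G d ⟶ cover hb hc G hG F) : F.obj.obj (op d) :=
  (existsUnique_val hb hc G hG F h).choose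

lemma val_spec {d : GenCat G} (h : G d ⟶ cover hb hc G hG F) : Val hb hc G hG F h (val hb hc G hG F h) :=
  (existsUnique_val hb hc G hG F h).choose_spec.1

lemma val_comp {d e : GenCat G} (g : e ⟶ d) (h : G d ⟶ cover hb hc G hG F) :
    val hb hc G hG F (g.hom ≫ h) = F.obj.map g.op (val hb hc G hG F h) := by
  refine ((existsUnique_val hb hc G hG F (g.hom ≫ h)).choose_spec.2 _ ?_).symm
  intro e' a k b hab
  rw [← Functor.map_comp_apply, ← op_comp]
  refine val_spec hb hc G hG F h e' (a ≫ g) k b ?_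
  rw [InducedCategory.comp_hom, Category.assoc]; exact hab

lemma val_cinj (k : Idx hb hc G hG F) : val hb hc G hG F (cinj hb hc G hG F k) = k.2 := by
  have := val_spec hb hc G hG F (cinj hb hc G hG F k) k.1 (𝟙 _) k (𝟙 _) rfl
  simpa using this

/-- Index of the relation. -/
abbrev RelIdx : Type u :=
  Σ d : GenCat G, {p : (G d ⟶ cover hb hc G hG F) × (G d ⟶ cover hb hc G hG F) //
    val hb hc G hG F p.1 = val hb hc G hG F p.2}

lemma exists_relation :
    ∃ (R : E) (r₁ r₂ : R ⟶ cover hb hc G hG F), SGA4.IsEquivRel r₁ r₂ ∧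
      ∀ (d : GenCat G) (h h' : G d ⟶ cover hb hc G hG F),
        (∃ f : G d ⟶ R, f ≫ r₁ = h ∧ f ≫ r₂ = h') ↔ val hb hc G hG F h = val hb hc G hG F h' := by
  let K : RelIdx hb hc G hG F → E := fun k => G k.1
  obtain ⟨R, π, m, hm, hπ, hstab⟩ := exists_image hc
    (total hb (F := K) fun k => prod.lift k.2.1.1 k.2.1.2)
  haveI := hm
  let r₁ := m ≫ prod.fst
  let r₂ := m ≫ prod.snd
  have hinj : ∀ {T : E} (f f' : T ⟶ R), f ≫ r₁ = f' ≫ r₁ → f ≫ r₂ = f' ≫ r₂ → f = f' := by
    intro T f f' e₁ e₂
    refine (cancel_mono m).1 (Limits.prod.hom_ext ?_ ?_)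
    · simpa [r₁, Limits.prod.lift_fst] using e₁
    · simpa [r₂, Limits.prod.lift_snd] using e₂
  have hgen : ∀ (d : GenCat G) (h h' : G d ⟶ cover hb hc G hG F),
      (∃ f : G d ⟶ R, f ≫ r₁ = h ∧ f ≫ r₂ = h') ↔ val hb hc G hG F h = val hb hc G hG F h' := by
    intro d h h'
    constructor
    · rintro ⟨f, rfl, rfl⟩
      haveI := hstab (G d) f
      have hcov : Cov (fun _ : PUnit.{1} => pullback.snd π f) := fun M n hn hfac => by
        obtain ⟨l, hl⟩ := hfac ⟨⟩
        haveI := hn
        haveI : StrongEpi (l ≫ n) := by rw [hl]; infer_instance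
        haveI := strongEpi_of_strongEpi l n
        exact isIso_of_mono_of_strongEpi n
      have hc2 := hcov.comp (fun _ k => pullback.snd ((cop hb K).inj k) (pullback.fst π f))
        fun _ => (cov_inj hb K).pullback hb hc (pullback.fst π f)
      have hc3 := hc2.comp (fun p (q : Σ e : ι, (G e ⟶ pullback ((cop hb K).inj p.2) (pullback.fst π f))) => q.2)
        fun p => gen_cov G hG _
      let S : Sieve d :=
        { arrows := fun e a => F.obj.map a.op (val hb hc G hG F (f ≫ r₁)) =
            F.obj.map a.op (val hb hc G hG F (f ≫ r₂))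
          downward_closed := fun {Y Z a} ha g => by
            rw [op_comp, Functor.map_comp_apply, Functor.map_comp_apply, ha] }
      have hS : S ∈ genTop hb hc G hG d := by
        refine hc3.mono_of_factors _ ?_
        rintro ⟨⟨u, k⟩, e, t⟩
        let a := gh G (a := e) (b := d)
          (t ≫ pullback.snd ((cop hb K).inj k) (pullback.fst π f) ≫ pullback.snd π f)
        let b := gh G (a := e) (b := k.1)
          (t ≫ pullback.fst ((cop hb K).inj k) (pullback.fst π f))
        have key : a.hom ≫ f ≫ m = b.hom ≫ prod.lift k.2.1.1 k.2.1.2 := by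
          rw [← inj_total hb (F := K) (fun k => prod.lift k.2.1.1 k.2.1.2) k, ← hπ]
          simp [a, b, ← pullback.condition_assoc]
        refine ⟨⟨e, a, ?_⟩, 𝟙 _, by simp [sieveFam, a]⟩
        change F.obj.map a.op _ = F.obj.map a.op _
        rw [← val_comp, ← val_comp]
        have k₁ : a.hom ≫ f ≫ r₁ = b.hom ≫ k.2.1.1 := by
          simpa [r₁, Limits.prod.lift_fst] using key =≫ prod.fst
        have k₂ : a.hom ≫ f ≫ r₂ = b.hom ≫ k.2.1.2 := by
          simpa [r₂, Limits.prod.lift_snd] using key =≫ prod.snd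
        rw [k₁, k₂, val_comp, val_comp, k.2.2]
      exact (((isSheaf_iff_isSheaf_of_type _ _).1 F.property) _ hS).isSeparatedFor.ext
        fun _ _ ha => ha
    · intro e
      let k : RelIdx hb hc G hG F := ⟨d, ⟨(h, h'), e⟩⟩
      have h1 : ((cop hb K).inj k ≫ π) ≫ m = prod.lift h h' := by
        rw [Category.assoc, hπ, inj_total]
      refine ⟨(cop hb K).inj k ≫ π, ?_, ?_⟩
      · simpa [r₁, Limits.prod.lift_fst] using h1 =≫ prod.fst
      · simpa [r₂, Limits.prod.lift_snd] using h1 =≫ prod.snd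
  refine ⟨R, r₁, r₂, fun T => ⟨fun f f' e => hinj f f' (congrArg Prod.fst e) (congrArg Prod.snd e), ?_⟩, hgen⟩
  have hT : ∀ a b : T ⟶ cover hb hc G hG F, (∃ f, f ≫ r₁ = a ∧ f ≫ r₂ = b) ↔
      ∀ (d : GenCat G) (t : G d ⟶ T), val hb hc G hG F (t ≫ a) = val hb hc G hG F (t ≫ b) := by
    intro a b
    constructor
    · rintro ⟨f, rfl, rfl⟩ d t
      exact (hgen d _ _).1 ⟨t ≫ f, Category.assoc _ _ _, Category.assoc _ _ _⟩
    · intro h
      obtain ⟨f, hf⟩ := (gen_cov G hG T).factor m (prod.lift a b) fun p => by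
        obtain ⟨l, hl₁, hl₂⟩ := (hgen p.1 _ _).2 (h p.1 p.2)
        refine ⟨l, Limits.prod.hom_ext ?_ ?_⟩
        · simpa [r₁, Limits.prod.lift_fst] using hl₁
        · simpa [r₂, Limits.prod.lift_snd] using hl₂
      refine ⟨f, ?_, ?_⟩
      · simpa [r₁, Limits.prod.lift_fst] using hf =≫ prod.fst
      · simpa [r₂, Limits.prod.lift_snd] using hf =≫ prod.snd
  simp only [hT]
  exact ⟨fun a d t => rfl, fun h d t => (h d t).symm, fun h h' d t => (h d t).trans (h' d t)⟩

lemma mem_essImage : (toSheaves hb hc G hG).essImage F := by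
  obtain ⟨R, r₁, r₂, hR, hgen⟩ := exists_relation hb hc G hG F
  obtain ⟨B, π, hpb, hpo, hstab⟩ := hc R _ r₁ r₂ hR
  have hrel : ∀ (d : GenCat G) (h h' : G d ⟶ cover hb hc G hG F),
      h ≫ π = h' ≫ π ↔ val hb hc G hG F h = val hb hc G hG F h' := by
    intro d h h'
    rw [← hgen]
    refine ⟨fun e => ⟨hpb.lift h h' e, hpb.lift_fst _ _ _, hpb.lift_snd _ _ _⟩, ?_⟩
    rintro ⟨f, rfl, rfl⟩
    rw [Category.assoc, Category.assoc, hpb.w]
  let ψ : F.obj ⟶ (points G).obj B :=
    { app := fun c => ↾ fun s => cinj hb hc G hG F ⟨c.unop, s⟩ ≫ π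
      naturality := fun c d g => by
        refine ConcreteCategory.hom_ext _ _ fun s => ?_
        change cinj hb hc G hG F ⟨d.unop, F.obj.map g s⟩ ≫ π = g.unop.hom ≫ cinj hb hc G hG F ⟨c.unop, s⟩ ≫ π
        rw [← Category.assoc, hrel, val_comp, val_cinj, val_cinj]
        rfl }
  have hψ : ∀ c, Function.Bijective (ψ.app c) := by
    intro c
    refine ⟨fun s s' e => ?_, fun b => ?_⟩
    · have := (hrel c.unop _ _).1 e
      rw [val_cinj, val_cinj] at this
      exact this
    · change G c.unop ⟶ B at b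
      haveI := hstab _ b
      have hcov : Cov (fun _ : PUnit.{1} => pullback.snd π b) := fun M n hn hfac => by
        obtain ⟨l, hl⟩ := hfac ⟨⟩
        haveI := hn
        haveI : StrongEpi (l ≫ n) := by rw [hl]; infer_instance
        haveI := strongEpi_of_strongEpi l n
        exact isIso_of_mono_of_strongEpi n
      let S : Sieve c.unop :=
        { arrows := fun e a => ∃ h : G e ⟶ cover hb hc G hG F, h ≫ π = a.hom ≫ b
          downward_closed := by
            rintro Y Z a ⟨h, e⟩ g
            exact ⟨g.hom ≫ h, by rw [Category.assoc, e, InducedCategory.comp_hom, Category.assoc]⟩ }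
      have hS : S ∈ genTop hb hc G hG c.unop := by
        refine (hcov.comp (fun _ (q : Σ e : ι, (G e ⟶ pullback π b)) => q.2)
          fun _ => gen_cov G hG _).mono_of_factors _ ?_
        rintro ⟨u, e, t⟩
        exact ⟨⟨e, InducedCategory.homMk (t ≫ pullback.snd π b), t ≫ pullback.fst π b,
          by simp [pullback.condition]⟩, 𝟙 _, Category.id_comp _⟩
      let x : Presieve.FamilyOfElements F.obj S.arrows := fun e a ha => val hb hc G hG F ha.choose
      have hx : x.Compatible := by
        intro Y₁ Y₂ Z g₁ g₂ f₁ f₂ h₁ h₂ w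
        change F.obj.map g₁.op _ = F.obj.map g₂.op _
        rw [← val_comp, ← val_comp, ← hrel, Category.assoc, Category.assoc, h₁.choose_spec,
          h₂.choose_spec]
        have := congrArg (fun t : Z ⟶ c.unop => t.hom ≫ b) w
        simpa [InducedCategory.comp_hom] using this
      obtain ⟨s, hs, -⟩ := ((isSheaf_iff_isSheaf_of_type _ _).1 F.property) S hS x hx
      refine ⟨s, ?_⟩
      refine (((isSheaf_iff_isSheaf_of_type _ _).1 (isSheaf_points hb hc G hG B)) S hS).isSeparatedFor.ext
        fun e a ha => ?_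
      change a.hom ≫ cinj hb hc G hG F ⟨c.unop, s⟩ ≫ π = a.hom ≫ b
      rw [← ha.choose_spec, ← Category.assoc, hrel, val_comp, val_cinj]
      exact hs a ha
  haveI : ∀ c, IsIso (ψ.app c) := fun c => (isIso_iff_bijective _).2 (hψ c)
  haveI : IsIso ψ := NatIso.isIso_of_isIso_app ψ
  exact ⟨B, ⟨(fullyFaithfulSheafToPresheaf _ _).preimageIso (asIso ψ).symm⟩⟩

end EssSurj

include hb hc hG in
/-- Giraud's theorem. -/
theorem giraud : SGA4.IsTopos.{v, u} E := by
  haveI := toSheaves_faithful hb hc G hG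
  haveI := toSheaves_full hb hc G hG
  haveI : (toSheaves hb hc G hG).EssSurj := ⟨mem_essImage hb hc G hG⟩
  haveI : (toSheaves hb hc G hG).IsEquivalence := { }
  exact ⟨GenCat G, inferInstance, genTop hb hc G hG, ⟨(toSheaves hb hc G hG).asEquivalence⟩⟩

end Groth.Agent.Giraud16
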